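import Cfsg.Agent.Lib.Helper18.StSteinFast

/-!
# Type E₆: decompositions commuting with a root, part 1
-/

set_option autoImplicit false

namespace Cfsg.Agent.Lib.Helper18.StAbs

open Cfsg Cfsg.Lie Cfsg.Lie.ChevalleyDatum

/-- for each root `α`: pairs of roots commuting with `α` whose sums are the roots commuting
with `α` -/
def h1E6_00 : List (ℕ × List (ℕ × List ℕ)) :=
  [(0, [(11, [18, 20, 21, 23, 24, 25, 36, 38, 41, 45, 56, 57, 58, 59]), (60, [1, 2, 3, 5, 6, 8, 12, 13, 14, 15, 26, 30, 33, 35]), (12, [21, 24, 25, 35, 56, 57, 58]), (59, [1, 2, 5, 13, 14, 15, 36]), (13, [25, 56, 57]), (33, [18, 41, 45]), (1, [25]), (14, [56]), (15, [57])]),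
  (1, [(8, [18, 27, 28, 31, 32, 36, 38, 46, 49, 52, 56, 57, 61, 62]), (63, [0, 2, 3, 5, 6, 9, 10, 11, 14, 15, 19, 22, 33, 35]), (9, [28, 32, 35, 46, 56, 57, 61]), (62, [0, 2, 5, 10, 14, 15, 36]), (10, [46, 56, 57]), (33, [18, 49, 52]), (0, [46]), (14, [56]), (15, [57])]),
  (2, [(6, [20, 27, 29, 34, 36, 39, 41, 47, 49, 54, 56, 58, 61, 64]), (65, [0, 1, 3, 5, 7, 8, 10, 11, 13, 15, 17, 22, 30, 35]), (7, [29, 35, 39, 47, 56, 58, 61]), (64, [0, 1, 5, 10, 13, 15, 36]), (10, [47, 56, 58]), (30, [20, 49, 54]), (0, [47]), (13, [56]), (15, [58])]),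
  (3, [(5, [21, 28, 29, 37, 38, 40, 41, 48, 49, 55, 56, 59, 62, 64]), (66, [0, 1, 2, 6, 7, 8, 9, 11, 12, 15, 16, 22, 30, 33]), (7, [29, 33, 40, 48, 56, 59, 62]), (64, [0, 1, 6, 9, 12, 15, 38]), (9, [48, 56, 59]), (30, [21, 49, 55]), (0, [48]), (12, [56]), (15, [59])]),
  (4, [(5, [21, 28, 29, 37, 38, 40, 41, 48, 49, 55, 56, 60, 63, 65]), (66, [0, 1, 2, 6, 7, 8, 9, 11, 12, 15, 16, 23, 31, 34]), (6, [29, 34, 41, 49, 56, 60, 63]), (65, [0, 1, 7, 8, 11, 15, 37]), (8, [49, 56, 60]), (31, [21, 48, 55]), (0, [49]), (11, [56]), (15, [60])]),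
  (5, [(3, [23, 31, 34, 36, 42, 43, 45, 50, 52, 54, 57, 58, 61, 67]), (68, [0, 1, 2, 4, 6, 8, 10, 11, 13, 14, 17, 19, 26, 35]), (4, [35, 42, 43, 50, 57, 58, 61]), (67, [0, 1, 2, 10, 13, 14, 36]), (10, [50, 57, 58]), (26, [23, 52, 54]), (0, [50]), (13, [57]), (14, [58])]),
  (6, [(2, [24, 32, 37, 38, 42, 44, 45, 51, 52, 55, 57, 59, 62, 67]), (69, [0, 1, 3, 4, 5, 8, 9, 11, 12, 14, 16, 19, 26, 33]), (4, [33, 42, 44, 51, 57, 59, 62]), (67, [0, 1, 3, 9, 12, 14, 38]), (9, [51, 57, 59]), (26, [24, 52, 55]), (0, [51]), (12, [57]), (14, [59])]),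
  (7, [(2, [24, 32, 37, 38, 42, 44, 45, 51, 52, 55, 57, 60, 63, 68]), (69, [0, 1, 3, 4, 5, 8, 9, 11, 12, 14, 16, 20, 27, 34]), (3, [34, 42, 45, 52, 57, 60, 63]), (68, [0, 1, 4, 8, 11, 14, 37]), (8, [52, 57, 60]), (27, [24, 51, 55]), (0, [52]), (11, [57]), (14, [60])]),
  (8, [(1, [25, 39, 40, 41, 43, 44, 45, 53, 54, 55, 58, 59, 64, 67]), (70, [0, 2, 3, 4, 5, 6, 7, 11, 12, 13, 16, 17, 26, 30]), (4, [30, 43, 44, 53, 58, 59, 64]), (67, [0, 2, 3, 7, 12, 13, 41]), (7, [53, 58, 59]), (26, [25, 54, 55]), (0, [53]), (12, [58]), (13, [59])]),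
  (9, [(1, [25, 39, 40, 41, 43, 44, 45, 53, 54, 55, 58, 60, 65, 68]), (70, [0, 2, 3, 4, 5, 6, 7, 11, 12, 13, 16, 18, 27, 31]), (3, [31, 43, 45, 54, 58, 60, 65]), (68, [0, 2, 4, 6, 11, 13, 40]), (6, [54, 58, 60]), (27, [25, 53, 55]), (0, [54]), (11, [58]), (13, [60])]),
  (10, [(1, [25, 39, 40, 41, 43, 44, 45, 53, 54, 55, 59, 60, 66, 69]), (70, [0, 2, 3, 4, 5, 6, 7, 11, 12, 13, 17, 18, 28, 32]), (2, [32, 44, 45, 55, 59, 60, 66]), (69, [0, 3, 4, 5, 11, 12, 39]), (5, [55, 59, 60]), (28, [25, 53, 54]), (0, [55]), (11, [59]), (12, [60])]),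
  (11, [(0, [46, 47, 48, 49, 50, 51, 52, 53, 54, 55, 61, 62, 64, 67]), (71, [1, 2, 3, 4, 5, 6, 7, 8, 9, 10, 16, 17, 19, 22]), (4, [22, 50, 51, 53, 61, 62, 64]), (67, [1, 2, 3, 7, 9, 10, 49]), (7, [53, 61, 62]), (19, [46, 54, 55]), (1, [53]), (9, [61]), (10, [62])]),
  (12, [(0, [46, 47, 48, 49, 50, 51, 52, 53, 54, 55, 61, 63, 65, 68]), (71, [1, 2, 3, 4, 5, 6, 7, 8, 9, 10, 16, 18, 20, 23]), (3, [23, 50, 52, 54, 61, 63, 65]), (68, [1, 2, 4, 6, 8, 10, 48]), (6, [54, 61, 63]), (20, [46, 53, 55]), (1, [54]), (8, [61]), (10, [63])]),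
  (13, [(0, [46, 47, 48, 49, 50, 51, 52, 53, 54, 55, 62, 63, 66, 69]), (71, [1, 2, 3, 4, 5, 6, 7, 8, 9, 10, 17, 18, 21, 24]), (2, [24, 51, 52, 55, 62, 63, 66]), (69, [1, 3, 4, 5, 8, 9, 47]), (5, [55, 62, 63]), (21, [46, 53, 54]), (1, [55]), (8, [62]), (9, [63])]),
  (14, [(0, [46, 47, 48, 49, 50, 51, 52, 53, 54, 55, 64, 65, 66, 70]), (71, [1, 2, 3, 4, 5, 6, 7, 8, 9, 10, 19, 20, 21, 25]), (1, [25, 53, 54, 55, 64, 65, 66]), (70, [2, 3, 4, 5, 6, 7, 46]), (5, [55, 64, 65]), (21, [47, 51, 52]), (2, [55]), (6, [64]), (7, [65])]),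
  (15, [(0, [46, 47, 48, 49, 50, 51, 52, 53, 54, 55, 67, 68, 69, 70]), (71, [1, 2, 3, 4, 5, 6, 7, 8, 9, 10, 22, 23, 24, 25]), (1, [25, 53, 54, 55, 67, 68, 69]), (70, [2, 3, 4, 5, 6, 7, 46]), (2, [55, 67, 68]), (24, [48, 49, 50]), (3, [67]), (4, [68]), (5, [55])]),
  (16, [(3, [23, 31, 34, 36, 42, 43, 50, 57, 58, 60, 61, 63, 65, 67]), (68, [0, 1, 2, 4, 6, 8, 11, 17, 19, 21, 26, 28, 29, 35]), (4, [35, 42, 43, 50, 57, 58, 61]), (67, [0, 1, 2, 21, 28, 29, 36]), (6, [34, 60, 63]), (29, [43, 50, 57]), (0, [61]), (8, [60]), (11, [63])]),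
  (17, [(2, [24, 32, 37, 38, 42, 44, 51, 57, 59, 60, 62, 63, 66, 67]), (69, [0, 1, 3, 4, 5, 8, 11, 16, 19, 20, 26, 27, 29, 33]), (4, [33, 42, 44, 51, 57, 59, 62]), (67, [0, 1, 3, 20, 27, 29, 38]), (5, [37, 60, 63]), (29, [44, 51, 57]), (0, [62]), (8, [60]), (11, [63])]),
  (18, [(2, [24, 32, 37, 38, 42, 45, 52, 57, 59, 60, 62, 63, 66, 68]), (69, [0, 1, 3, 4, 5, 9, 12, 16, 19, 20, 26, 27, 29, 34]), (3, [34, 42, 45, 52, 57, 60, 63]), (68, [0, 1, 4, 19, 26, 29, 37]), (5, [38, 59, 62]), (29, [45, 52, 57]), (0, [63]), (9, [59]), (12, [62])]),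
  (19, [(1, [25, 39, 40, 41, 43, 44, 53, 58, 59, 60, 64, 65, 66, 67]), (70, [0, 2, 3, 4, 5, 6, 11, 16, 17, 18, 26, 27, 28, 30]), (4, [30, 43, 44, 53, 58, 59, 64]), (67, [0, 2, 3, 18, 27, 28, 41]), (5, [40, 60, 65]), (28, [44, 53, 58]), (0, [64]), (6, [60]), (11, [65])]),
  (20, [(1, [25, 39, 40, 41, 43, 45, 54, 58, 59, 60, 64, 65, 66, 68]), (70, [0, 2, 3, 4, 5, 7, 12, 16, 17, 18, 26, 27, 28, 31]), (3, [31, 43, 45, 54, 58, 60, 65]), (68, [0, 2, 4, 17, 26, 28, 40]), (5, [41, 59, 64]), (28, [45, 54, 58]), (0, [65]), (7, [59]), (12, [64])]),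
  (21, [(1, [25, 39, 40, 41, 44, 45, 55, 58, 59, 60, 64, 65, 66, 69]), (70, [0, 2, 3, 4, 6, 7, 13, 16, 17, 18, 26, 27, 28, 32]), (2, [32, 44, 45, 55, 59, 60, 66]), (69, [0, 3, 4, 16, 26, 27, 39]), (6, [41, 58, 64]), (27, [45, 55, 59]), (0, [66]), (7, [58]), (13, [64])]),
  (22, [(1, [25, 39, 40, 43, 44, 45, 53, 58, 59, 60, 64, 67, 68, 69]), (70, [0, 2, 3, 5, 6, 7, 11, 16, 17, 18, 26, 30, 31, 32]), (2, [32, 44, 45, 59, 60, 67, 68]), (69, [0, 3, 5, 11, 16, 26, 39]), (3, [45, 60, 67]), (31, [25, 53, 64]), (0, [67]), (7, [53]), (18, [64])]),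
  (23, [(1, [25, 39, 41, 43, 44, 45, 54, 58, 59, 60, 65, 67, 68, 69]), (70, [0, 2, 4, 5, 6, 7, 12, 16, 17, 18, 27, 30, 31, 32]), (2, [32, 44, 45, 59, 60, 67, 68]), (69, [0, 4, 5, 12, 16, 27, 39]), (4, [44, 59, 68]), (30, [25, 54, 65]), (0, [68]), (6, [54]), (17, [65])]),
  (24, [(1, [25, 40, 41, 43, 44, 45, 55, 58, 59, 60, 66, 67, 68, 69]), (70, [0, 3, 4, 5, 6, 7, 13, 16, 17, 18, 28, 30, 31, 32]), (3, [31, 43, 45, 58, 60, 67, 69]), (68, [0, 4, 6, 13, 17, 28, 40]), (4, [43, 58, 69]), (30, [25, 55, 66]), (0, [69]), (5, [55]), (16, [66])]),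
  (25, [(2, [24, 37, 38, 42, 44, 45, 55, 57, 59, 60, 66, 67, 68, 70]), (69, [0, 3, 4, 5, 8, 9, 14, 16, 19, 20, 29, 33, 34, 39]), (3, [34, 42, 45, 57, 60, 67, 70]), (68, [0, 4, 8, 14, 19, 29, 37]), (4, [42, 57, 70]), (33, [24, 55, 66]), (0, [70]), (5, [55]), (16, [66])]),
  (26, [(0, [46, 47, 48, 49, 50, 51, 53, 61, 62, 63, 64, 65, 66, 67]), (71, [1, 2, 3, 4, 5, 6, 8, 16, 17, 18, 19, 20, 21, 22]), (4, [22, 50, 51, 53, 61, 62, 64]), (67, [1, 2, 3, 18, 20, 21, 49]), (5, [48, 63, 65]), (21, [51, 53, 61]), (1, [64]), (6, [63]), (8, [65])]),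
  (27, [(0, [46, 47, 48, 49, 50, 52, 54, 61, 62, 63, 64, 65, 66, 68]), (71, [1, 2, 3, 4, 5, 7, 9, 16, 17, 18, 19, 20, 21, 23]), (3, [23, 50, 52, 54, 61, 63, 65]), (68, [1, 2, 4, 17, 19, 21, 48]), (5, [49, 62, 64]), (21, [52, 54, 61]), (1, [65]), (7, [62]), (9, [64])]),
  (28, [(0, [46, 47, 48, 49, 51, 52, 55, 61, 62, 63, 64, 65, 66, 69]), (71, [1, 2, 3, 4, 6, 7, 10, 16, 17, 18, 19, 20, 21, 24]), (2, [24, 51, 52, 55, 62, 63, 66]), (69, [1, 3, 4, 16, 19, 20, 47]), (6, [49, 61, 64]), (20, [52, 55, 62]), (1, [66]), (7, [61]), (10, [64])]),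
  (29, [(0, [46, 47, 48, 49, 53, 54, 55, 61, 62, 63, 64, 65, 66, 70]), (71, [1, 2, 3, 4, 8, 9, 10, 16, 17, 18, 19, 20, 21, 25]), (1, [25, 53, 54, 55, 64, 65, 66]), (70, [2, 3, 4, 16, 17, 18, 46]), (8, [49, 61, 62]), (18, [54, 55, 64]), (2, [66]), (9, [61]), (10, [62])]),
  (30, [(0, [46, 47, 48, 50, 51, 52, 53, 61, 62, 63, 64, 67, 68, 69]), (71, [1, 2, 3, 5, 6, 7, 8, 16, 17, 18, 19, 22, 23, 24]), (2, [24, 51, 52, 62, 63, 67, 68]), (69, [1, 3, 5, 8, 16, 19, 47]), (3, [52, 63, 67]), (23, [46, 53, 64]), (1, [67]), (7, [53]), (18, [64])]),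
  (31, [(0, [46, 47, 49, 50, 51, 52, 54, 61, 62, 63, 65, 67, 68, 69]), (71, [1, 2, 4, 5, 6, 7, 9, 16, 17, 18, 20, 22, 23, 24]), (2, [24, 51, 52, 62, 63, 67, 68]), (69, [1, 4, 5, 9, 16, 20, 47]), (4, [51, 62, 68]), (22, [46, 54, 65]), (1, [68]), (6, [54]), (17, [65])]),
  (32, [(0, [46, 48, 49, 50, 51, 52, 55, 61, 62, 63, 66, 67, 68, 69]), (71, [1, 3, 4, 5, 6, 7, 10, 16, 17, 18, 21, 22, 23, 24]), (3, [23, 50, 52, 61, 63, 67, 69]), (68, [1, 4, 6, 10, 17, 21, 48]), (4, [50, 61, 69]), (22, [46, 55, 66]), (1, [69]), (5, [55]), (16, [66])]),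
  (33, [(0, [46, 47, 48, 50, 51, 53, 54, 61, 62, 64, 65, 67, 68, 70]), (71, [1, 2, 3, 5, 6, 8, 9, 16, 17, 19, 20, 22, 23, 25]), (1, [25, 53, 54, 64, 65, 67, 68]), (70, [2, 3, 5, 6, 16, 17, 46]), (3, [54, 65, 67]), (23, [47, 51, 62]), (2, [67]), (6, [54]), (17, [65])]),
  (34, [(0, [46, 47, 49, 50, 52, 53, 54, 61, 63, 64, 65, 67, 68, 70]), (71, [1, 2, 4, 5, 7, 8, 9, 16, 18, 19, 20, 22, 23, 25]), (1, [25, 53, 54, 64, 65, 67, 68]), (70, [2, 4, 5, 7, 16, 18, 46]), (4, [53, 64, 68]), (22, [47, 52, 63]), (2, [68]), (7, [53]), (18, [64])]),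
  (35, [(0, [46, 47, 48, 50, 51, 53, 55, 61, 62, 64, 66, 67, 69, 70]), (71, [1, 2, 3, 5, 6, 8, 10, 16, 17, 19, 21, 22, 24, 25]), (1, [25, 53, 55, 64, 66, 67, 69]), (70, [2, 3, 5, 6, 16, 17, 46]), (2, [55, 66, 67]), (24, [48, 50, 61]), (3, [67]), (5, [55]), (16, [66])])]

set_option maxRecDepth 100000 in
theorem h1chk_E6_00 : h1ChunkF chevE6 h1E6_00 = true := by decide +kernel

end Cfsg.Agent.Lib.Helper18.StAbs
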