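import Cfsg.Agent.Lib.Helper18.StSteinFast

/-!
# Type E₆: decompositions commuting with a root, part 2
-/

set_option autoImplicit false

namespace Cfsg.Agent.Lib.Helper18.StAbs

open Cfsg Cfsg.Lie Cfsg.Lie.ChevalleyDatum

/-- for each root `α`: pairs of roots commuting with `α` whose sums are the roots commuting
with `α` -/
def h1E6_01 : List (ℕ × List (ℕ × List ℕ)) :=
  [(36, [(0, [46, 47, 49, 50, 52, 54, 55, 61, 63, 65, 66, 68, 69, 70]), (71, [1, 2, 4, 5, 7, 9, 10, 16, 18, 20, 21, 23, 24, 25]), (1, [25, 54, 55, 65, 66, 68, 69]), (70, [2, 4, 5, 7, 16, 18, 46]), (2, [55, 66, 68]), (24, [49, 50, 61]), (4, [68]), (5, [55]), (16, [66])]),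
  (37, [(0, [46, 48, 49, 51, 52, 53, 55, 62, 63, 64, 66, 67, 69, 70]), (71, [1, 3, 4, 6, 7, 8, 10, 17, 18, 19, 21, 22, 24, 25]), (1, [25, 53, 55, 64, 66, 67, 69]), (70, [3, 4, 6, 7, 17, 18, 46]), (4, [53, 64, 69]), (22, [48, 52, 63]), (3, [69]), (7, [53]), (18, [64])]),
  (38, [(0, [46, 48, 49, 51, 52, 54, 55, 62, 63, 65, 66, 68, 69, 70]), (71, [1, 3, 4, 6, 7, 9, 10, 17, 18, 20, 21, 23, 24, 25]), (1, [25, 54, 55, 65, 66, 68, 69]), (70, [3, 4, 6, 7, 17, 18, 46]), (3, [54, 65, 69]), (23, [49, 51, 62]), (4, [69]), (6, [54]), (17, [65])]),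
  (39, [(0, [47, 48, 49, 50, 53, 54, 55, 61, 64, 65, 66, 67, 68, 70]), (71, [2, 3, 4, 5, 8, 9, 10, 16, 19, 20, 21, 22, 23, 25]), (3, [23, 50, 54, 61, 65, 67, 70]), (68, [2, 4, 8, 10, 19, 21, 48]), (4, [50, 61, 70]), (22, [47, 55, 66]), (2, [70]), (5, [55]), (16, [66])]),
  (40, [(0, [47, 48, 49, 51, 53, 54, 55, 62, 64, 65, 66, 67, 69, 70]), (71, [2, 3, 4, 6, 8, 9, 10, 17, 19, 20, 21, 22, 24, 25]), (2, [24, 51, 55, 62, 66, 67, 70]), (69, [3, 4, 8, 9, 19, 20, 47]), (4, [51, 62, 70]), (22, [48, 54, 65]), (3, [70]), (6, [54]), (17, [65])]),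
  (41, [(0, [47, 48, 49, 52, 53, 54, 55, 63, 64, 65, 66, 68, 69, 70]), (71, [2, 3, 4, 7, 8, 9, 10, 18, 19, 20, 21, 23, 24, 25]), (2, [24, 52, 55, 63, 66, 68, 70]), (69, [3, 4, 8, 9, 19, 20, 47]), (3, [52, 63, 70]), (23, [49, 53, 64]), (4, [70]), (7, [53]), (18, [64])]),
  (42, [(0, [46, 50, 51, 52, 53, 54, 55, 61, 62, 63, 67, 68, 69, 70]), (71, [1, 5, 6, 7, 8, 9, 10, 16, 17, 18, 22, 23, 24, 25]), (1, [25, 53, 54, 55, 67, 68, 69]), (70, [5, 6, 7, 16, 17, 18, 46]), (8, [52, 61, 62]), (18, [54, 55, 67]), (5, [69]), (9, [61]), (10, [62])]),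
  (43, [(0, [47, 50, 51, 52, 53, 54, 55, 61, 64, 65, 67, 68, 69, 70]), (71, [2, 5, 6, 7, 8, 9, 10, 16, 19, 20, 22, 23, 24, 25]), (2, [24, 51, 52, 55, 67, 68, 70]), (69, [5, 8, 9, 16, 19, 20, 47]), (6, [54, 61, 64]), (20, [52, 55, 67]), (5, [70]), (7, [61]), (10, [64])]),
  (44, [(0, [48, 50, 51, 52, 53, 54, 55, 62, 64, 66, 67, 68, 69, 70]), (71, [3, 5, 6, 7, 8, 9, 10, 17, 19, 21, 22, 23, 24, 25]), (3, [23, 50, 52, 54, 67, 69, 70]), (68, [6, 8, 10, 17, 19, 21, 48]), (5, [55, 62, 64]), (21, [52, 54, 67]), (6, [70]), (7, [62]), (9, [64])]),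
  (45, [(0, [49, 50, 51, 52, 53, 54, 55, 63, 65, 66, 67, 68, 69, 70]), (71, [4, 5, 6, 7, 8, 9, 10, 18, 20, 21, 22, 23, 24, 25]), (4, [22, 50, 51, 53, 68, 69, 70]), (67, [7, 9, 10, 18, 20, 21, 49]), (5, [55, 63, 65]), (21, [51, 53, 68]), (6, [63]), (7, [70]), (8, [65])]),
  (46, [(2, [32, 37, 38, 42, 51, 52, 55, 57, 62, 63, 66, 67, 68, 71]), (69, [1, 3, 4, 5, 11, 12, 14, 16, 26, 27, 29, 33, 34, 47]), (3, [34, 42, 52, 57, 63, 67, 71]), (68, [1, 4, 11, 14, 26, 29, 37]), (4, [42, 57, 71]), (33, [32, 55, 66]), (1, [71]), (5, [55]), (16, [66])]),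
  (47, [(1, [39, 40, 41, 43, 53, 54, 55, 58, 64, 65, 66, 67, 68, 71]), (70, [2, 3, 4, 5, 11, 12, 13, 16, 26, 27, 28, 30, 31, 46]), (3, [31, 43, 54, 58, 65, 67, 71]), (68, [2, 4, 11, 13, 26, 28, 40]), (4, [43, 58, 71]), (30, [39, 55, 66]), (2, [71]), (5, [55]), (16, [66])]),
  (48, [(1, [39, 40, 41, 44, 53, 54, 55, 59, 64, 65, 66, 67, 69, 71]), (70, [2, 3, 4, 6, 11, 12, 13, 17, 26, 27, 28, 30, 32, 46]), (2, [32, 44, 55, 59, 66, 67, 71]), (69, [3, 4, 11, 12, 26, 27, 39]), (4, [44, 59, 71]), (30, [40, 54, 65]), (3, [71]), (6, [54]), (17, [65])]),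
  (49, [(1, [39, 40, 41, 45, 53, 54, 55, 60, 64, 65, 66, 68, 69, 71]), (70, [2, 3, 4, 7, 11, 12, 13, 18, 26, 27, 28, 31, 32, 46]), (2, [32, 45, 55, 60, 66, 68, 71]), (69, [3, 4, 11, 12, 26, 27, 39]), (3, [45, 60, 71]), (31, [41, 53, 64]), (4, [71]), (7, [53]), (18, [64])]),
  (50, [(1, [39, 43, 44, 45, 53, 54, 55, 58, 64, 65, 67, 68, 69, 71]), (70, [2, 5, 6, 7, 11, 12, 13, 16, 26, 27, 30, 31, 32, 46]), (2, [32, 44, 45, 55, 67, 68, 71]), (69, [5, 11, 12, 16, 26, 27, 39]), (6, [54, 58, 64]), (27, [45, 55, 67]), (5, [71]), (7, [58]), (13, [64])]),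
  (51, [(1, [40, 43, 44, 45, 53, 54, 55, 59, 64, 66, 67, 68, 69, 71]), (70, [3, 5, 6, 7, 11, 12, 13, 17, 26, 28, 30, 31, 32, 46]), (3, [31, 43, 45, 54, 67, 69, 71]), (68, [6, 11, 13, 17, 26, 28, 40]), (5, [55, 59, 64]), (28, [45, 54, 67]), (6, [71]), (7, [59]), (12, [64])]),
  (52, [(1, [41, 43, 44, 45, 53, 54, 55, 60, 65, 66, 67, 68, 69, 71]), (70, [4, 5, 6, 7, 11, 12, 13, 18, 27, 28, 30, 31, 32, 46]), (4, [30, 43, 44, 53, 68, 69, 71]), (67, [7, 12, 13, 18, 27, 28, 41]), (5, [55, 60, 65]), (28, [44, 53, 68]), (6, [60]), (7, [71]), (11, [65])]),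
  (53, [(2, [37, 42, 44, 45, 51, 52, 55, 59, 62, 66, 67, 68, 70, 71]), (69, [3, 5, 8, 9, 11, 12, 14, 19, 26, 29, 33, 34, 39, 47]), (3, [34, 42, 45, 52, 67, 70, 71]), (68, [8, 11, 14, 19, 26, 29, 37]), (5, [55, 59, 62]), (29, [45, 52, 67]), (8, [71]), (9, [59]), (12, [62])]),
  (54, [(2, [38, 42, 44, 45, 51, 52, 55, 60, 63, 66, 67, 68, 70, 71]), (69, [4, 5, 8, 9, 11, 12, 14, 20, 27, 29, 33, 34, 39, 47]), (4, [33, 42, 44, 51, 68, 70, 71]), (67, [9, 12, 14, 20, 27, 29, 38]), (5, [55, 60, 63]), (29, [44, 51, 68]), (8, [60]), (9, [71]), (11, [63])]),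
  (55, [(3, [36, 42, 43, 45, 50, 52, 54, 60, 63, 65, 67, 69, 70, 71]), (68, [4, 6, 8, 10, 11, 13, 14, 21, 28, 29, 35, 37, 40, 48]), (4, [35, 42, 43, 50, 69, 70, 71]), (67, [10, 13, 14, 21, 28, 29, 36]), (6, [54, 60, 63]), (29, [43, 50, 69]), (8, [60]), (10, [71]), (11, [63])]),
  (56, [(0, [46, 47, 48, 49, 61, 62, 63, 64, 65, 66, 67, 68, 69, 70]), (71, [1, 2, 3, 4, 16, 17, 18, 19, 20, 21, 22, 23, 24, 25]), (1, [25, 64, 65, 66, 67, 68, 69]), (70, [2, 3, 4, 16, 17, 18, 46]), (2, [66, 67, 68]), (24, [48, 49, 61]), (3, [67]), (4, [68]), (16, [66])]),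
  (57, [(0, [46, 50, 51, 52, 61, 62, 63, 64, 65, 66, 67, 68, 69, 70]), (71, [1, 5, 6, 7, 16, 17, 18, 19, 20, 21, 22, 23, 24, 25]), (1, [25, 64, 65, 66, 67, 68, 69]), (70, [5, 6, 7, 16, 17, 18, 46]), (5, [64, 65, 69]), (21, [51, 52, 61]), (6, [64]), (7, [65]), (16, [69])]),
  (58, [(0, [47, 50, 53, 54, 61, 62, 63, 64, 65, 66, 67, 68, 69, 70]), (71, [2, 5, 8, 9, 16, 17, 18, 19, 20, 21, 22, 23, 24, 25]), (2, [24, 62, 63, 66, 67, 68, 70]), (69, [5, 8, 9, 16, 19, 20, 47]), (5, [62, 63, 70]), (21, [53, 54, 61]), (8, [62]), (9, [63]), (16, [70])]),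
  (59, [(0, [48, 51, 53, 55, 61, 62, 63, 64, 65, 66, 67, 68, 69, 70]), (71, [3, 6, 8, 10, 16, 17, 18, 19, 20, 21, 22, 23, 24, 25]), (3, [23, 61, 63, 65, 67, 69, 70]), (68, [6, 8, 10, 17, 19, 21, 48]), (6, [61, 63, 70]), (20, [53, 55, 62]), (8, [61]), (10, [63]), (17, [70])]),
  (60, [(0, [49, 52, 54, 55, 61, 62, 63, 64, 65, 66, 67, 68, 69, 70]), (71, [4, 7, 9, 10, 16, 17, 18, 19, 20, 21, 22, 23, 24, 25]), (4, [22, 61, 62, 64, 68, 69, 70]), (67, [7, 9, 10, 18, 20, 21, 49]), (7, [61, 62, 70]), (19, [54, 55, 63]), (9, [61]), (10, [62]), (18, [70])]),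
  (61, [(1, [39, 43, 53, 54, 58, 59, 60, 64, 65, 66, 67, 68, 69, 71]), (70, [2, 5, 11, 12, 16, 17, 18, 26, 27, 28, 30, 31, 32, 46]), (2, [32, 59, 60, 66, 67, 68, 71]), (69, [5, 11, 12, 16, 26, 27, 39]), (5, [59, 60, 71]), (28, [53, 54, 58]), (11, [59]), (12, [60]), (16, [71])]),
  (62, [(1, [40, 44, 53, 55, 58, 59, 60, 64, 65, 66, 67, 68, 69, 71]), (70, [3, 6, 11, 13, 16, 17, 18, 26, 27, 28, 30, 31, 32, 46]), (3, [31, 58, 60, 65, 67, 69, 71]), (68, [6, 11, 13, 17, 26, 28, 40]), (6, [58, 60, 71]), (27, [53, 55, 59]), (11, [58]), (13, [60]), (17, [71])]),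
  (63, [(1, [41, 45, 54, 55, 58, 59, 60, 64, 65, 66, 67, 68, 69, 71]), (70, [4, 7, 12, 13, 16, 17, 18, 26, 27, 28, 30, 31, 32, 46]), (4, [30, 58, 59, 64, 68, 69, 71]), (67, [7, 12, 13, 18, 27, 28, 41]), (7, [58, 59, 71]), (26, [54, 55, 60]), (12, [58]), (13, [59]), (18, [71])]),
  (64, [(2, [37, 44, 51, 55, 57, 59, 60, 62, 63, 66, 67, 68, 70, 71]), (69, [3, 8, 11, 14, 16, 19, 20, 26, 27, 29, 33, 34, 39, 47]), (3, [34, 57, 60, 63, 67, 70, 71]), (68, [8, 11, 14, 19, 26, 29, 37]), (8, [57, 60, 71]), (27, [51, 55, 59]), (11, [57]), (14, [60]), (19, [71])]),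
  (65, [(2, [38, 45, 52, 55, 57, 59, 60, 62, 63, 66, 67, 68, 70, 71]), (69, [4, 9, 12, 14, 16, 19, 20, 26, 27, 29, 33, 34, 39, 47]), (4, [33, 57, 59, 62, 68, 70, 71]), (67, [9, 12, 14, 20, 27, 29, 38]), (9, [57, 59, 71]), (26, [52, 55, 60]), (12, [57]), (14, [59]), (20, [71])]),
  (66, [(3, [36, 45, 52, 54, 57, 58, 60, 61, 63, 65, 67, 69, 70, 71]), (68, [4, 10, 13, 14, 17, 19, 21, 26, 28, 29, 35, 37, 40, 48]), (4, [35, 57, 58, 61, 69, 70, 71]), (67, [10, 13, 14, 21, 28, 29, 36]), (10, [57, 58, 71]), (26, [52, 54, 60]), (13, [57]), (14, [58]), (21, [71])]),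
  (67, [(5, [37, 40, 48, 55, 56, 59, 60, 62, 63, 64, 65, 69, 70, 71]), (66, [6, 8, 11, 15, 16, 22, 23, 30, 31, 33, 34, 42, 43, 50]), (6, [34, 56, 60, 63, 64, 70, 71]), (65, [8, 11, 15, 22, 30, 37, 42]), (8, [56, 60, 71]), (31, [48, 55, 59]), (11, [56]), (15, [60]), (22, [71])]),
  (68, [(5, [38, 41, 49, 55, 56, 59, 60, 62, 63, 64, 65, 69, 70, 71]), (66, [7, 9, 12, 15, 16, 22, 23, 30, 31, 33, 34, 42, 43, 50]), (7, [33, 56, 59, 62, 65, 70, 71]), (64, [9, 12, 15, 23, 31, 38, 42]), (9, [56, 59, 71]), (30, [49, 55, 60]), (12, [56]), (15, [59]), (23, [71])]),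
  (69, [(6, [36, 41, 49, 54, 56, 58, 60, 61, 63, 64, 66, 68, 70, 71]), (65, [7, 10, 13, 15, 17, 22, 24, 30, 32, 35, 37, 42, 44, 51]), (7, [35, 56, 58, 61, 66, 70, 71]), (64, [10, 13, 15, 24, 32, 36, 42]), (10, [56, 58, 71]), (30, [49, 54, 60]), (13, [56]), (15, [58]), (24, [71])]),
  (70, [(8, [36, 38, 49, 52, 56, 57, 60, 61, 62, 65, 66, 68, 69, 71]), (63, [9, 10, 14, 15, 19, 22, 25, 33, 35, 39, 40, 43, 44, 53]), (9, [35, 56, 57, 61, 66, 69, 71]), (62, [10, 14, 15, 25, 36, 39, 43]), (10, [56, 57, 71]), (33, [49, 52, 60]), (14, [56]), (15, [57]), (25, [71])]),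
  (71, [(11, [36, 38, 41, 45, 56, 57, 58, 59, 63, 65, 66, 68, 69, 70]), (60, [12, 13, 14, 15, 26, 30, 33, 35, 46, 47, 48, 50, 51, 53]), (12, [35, 56, 57, 58, 66, 69, 70]), (59, [13, 14, 15, 36, 46, 47, 50]), (13, [56, 57, 70]), (33, [41, 45, 63]), (14, [56]), (15, [57]), (46, [70])])]

set_option maxRecDepth 100000 in
theorem h1chk_E6_01 : h1ChunkF chevE6 h1E6_01 = true := by decide +kernel

end Cfsg.Agent.Lib.Helper18.StAbs
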